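import Groth.Agent.H23.P1Charts

/-! Points of the projective line over an affine scheme in the two charts. -/

set_option autoImplicit false
set_option backward.isDefEq.respectTransparency false

universe u

open CategoryTheory Limits AlgebraicGeometry

namespace Groth.Agent.P1Rigid

open H23.P1Charts

variable {B : Type u} [CommRing B]

/-- the coordinate in the other chart, with homogeneous coordinates -/
noncomputable def evPair (v : Fin (1 + 1) → B) : MvPolynomial (Fin (1 + 1)) Z.{u} →+* B :=
  MvPolynomial.eval₂Hom (up B) v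

theorem evPair_smul (v : Fin (1 + 1) → B) (c : B) {n : ℕ} {p : MvPolynomial (Fin (1 + 1)) Z.{u}}
    (hp : p.IsHomogeneous n) : evPair (fun i => c * v i) p = c ^ n * evPair v p := by
  classical
  simp only [evPair, MvPolynomial.coe_eval₂Hom, MvPolynomial.eval₂_eq', Finset.mul_sum]
  refine Finset.sum_congr rfl fun d hd => ?_
  have h : ∑ i, d i = n := by
    have := hp (MvPolynomial.mem_support_iff.1 hd)
    simpa [Finsupp.weight_apply, Finsupp.sum_fintype] using this
  simp only [mul_pow, Finset.prod_mul_distrib, Finset.prod_pow_eq_pow_sum, h]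
  ring

/-- the point with coordinate `b` in the chart `i` -/
noncomputable def pt (i : Fin (1 + 1)) (b : B) : Spec (CommRingCat.of B) ⟶ CohB1.ProjSpace 1 Z.{u} :=
  Spec.map (CommRingCat.ofHom (P1.chartMap i B b)) ≫ Proj.awayι P1.grading (P1.T i) (P1.X_mem i) one_pos

theorem chartMap_mk (i : Fin (1 + 1)) (b : B) (n : ℕ) (p : MvPolynomial (Fin (1 + 1)) Z.{u})
    (hp : p ∈ P1.grading (n • 1)) :
    P1.chartMap i B b (HomogeneousLocalization.Away.mk P1.grading (P1.X_mem i) n p hp) =
      evPair (Function.update (fun _ => b) i 1) p := by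
  simp only [P1.chartMap, RingHom.comp_apply, HomogeneousLocalization.algebraMap_apply,
    HomogeneousLocalization.Away.val_mk]
  rw [Localization.mk_eq_mk', IsLocalization.Away.lift, IsLocalization.lift_mk'_spec]
  simp [MvPolynomial.eval₂_X, evPair, up]

theorem chartMap_comp {C : Type u} [CommRing C] (g : B →+* C) (i : Fin (1 + 1)) (b : B) :
    g.comp (P1.chartMap i B b) = P1.chartMap i C (g b) := by
  refine RingHom.ext fun a => ?_
  obtain ⟨n, p, hp, rfl⟩ := HomogeneousLocalization.Away.mk_surjective P1.grading (P1.X_mem i) a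
  rw [RingHom.comp_apply, chartMap_mk, chartMap_mk, evPair, evPair, MvPolynomial.map_eval₂Hom]
  congr 2
  · exact RingHom.ext fun r => by simp [up]
  · funext j
    rcases eq_or_ne j i with rfl | h <;> simp [*]

theorem spec_comp_pt {C : Type u} [CommRing C] (g : B →+* C) (i : Fin (1 + 1)) (b : B) :
    Spec.map (CommRingCat.ofHom g) ≫ pt i b = pt i (g b) := by
  rw [pt, pt, ← chartMap_comp g, ← Category.assoc, ← Spec.map_comp]
  rfl

/-- the two points coincide when the coordinates are inverse to each other -/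
theorem pt_eq {b c : B} (h : b * c = 1) : pt 0 b = pt 1 c := by
  let v : Fin (1 + 1) → B := Function.update (fun _ => b) 0 1
  let x : MvPolynomial (Fin (1 + 1)) Z.{u} := P1.T 0 * P1.T 1
  have hu : IsUnit (evPair v x) := by
    simpa [v, x, evPair, MvPolynomial.eval₂_X] using IsUnit.of_mul_eq_one _ h
  let χ : HomogeneousLocalization.Away P1.grading.{u} x →+* B :=
    (IsLocalization.Away.lift (S := Localization.Away x) x (g := evPair v) hu).comp
      (algebraMap (HomogeneousLocalization.Away P1.grading x) (Localization.Away x))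
  have h0 : χ.comp (HomogeneousLocalization.awayMap P1.grading (P1.X_mem 1) rfl) =
      P1.chartMap 0 B b := by
    refine RingHom.ext fun a => ?_
    obtain ⟨n, p, hp, rfl⟩ := HomogeneousLocalization.Away.mk_surjective P1.grading (P1.X_mem 0) a
    rw [RingHom.comp_apply, chartMap_mk]
    simp only [χ, RingHom.comp_apply, HomogeneousLocalization.algebraMap_apply]
    erw [HomogeneousLocalization.val_awayMap_mk]
    rw [Localization.mk_eq_mk', IsLocalization.Away.lift, IsLocalization.lift_mk'_spec]
    simp [x, v, evPair, MvPolynomial.eval₂_X, mul_comm]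
  have h1 : χ.comp (HomogeneousLocalization.awayMap P1.grading (P1.X_mem 0) (mul_comm _ _)) =
      P1.chartMap 1 B c := by
    refine RingHom.ext fun a => ?_
    obtain ⟨n, p, hp, rfl⟩ := HomogeneousLocalization.Away.mk_surjective P1.grading (P1.X_mem 1) a
    rw [RingHom.comp_apply, chartMap_mk]
    simp only [χ, RingHom.comp_apply, HomogeneousLocalization.algebraMap_apply]
    erw [HomogeneousLocalization.val_awayMap_mk]
    rw [Localization.mk_eq_mk', IsLocalization.Away.lift, IsLocalization.lift_mk'_spec]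
    have hv : v = fun i => b * Function.update (fun _ => c) 1 1 i := by
      funext i; fin_cases i <;> simp [v, h]
    have hp' := evPair_smul (Function.update (fun _ => c) 1 1) b
      ((MvPolynomial.mem_homogeneousSubmodule _ _).1 hp)
    rw [← hv] at hp'
    simp [x, v, evPair, MvPolynomial.eval₂_X] at hp' ⊢
    rw [hp']
  have key : ∀ {R S : Type u} [CommRing R] [CommRing S] (f : R →+* S) (ψ : S →+* B)
      {X : Scheme.{u}} (ι : Spec (CommRingCat.of R) ⟶ X),
      Spec.map (CommRingCat.ofHom (ψ.comp f)) ≫ ι =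
        Spec.map (CommRingCat.ofHom ψ) ≫ Spec.map (CommRingCat.ofHom f) ≫ ι := fun f ψ X ι => by
    rw [CommRingCat.ofHom_comp, Spec.map_comp, Category.assoc]
  rw [pt, pt, ← h0, ← h1]
  exact ((key _ χ _).trans (congrArg _ (Proj.SpecMap_awayMap_awayι P1.grading (P1.X_mem 0) one_pos
    (P1.X_mem 1) rfl))).trans ((key _ χ _).trans (congrArg _ (Proj.SpecMap_awayMap_awayι P1.grading
      (P1.X_mem 1) one_pos (P1.X_mem 0) (mul_comm _ _)))).symm

theorem isUnit_of_eq {b c : B} (h : pt 0 b = pt 1 c) : IsUnit b := by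
  by_contra hb
  obtain ⟨m, hm, hbm⟩ := exists_max_ideal_of_mem_nonunits (mem_nonunits_iff.2 hb)
  let p : Spec (CommRingCat.of B) := ⟨m, hm.isPrime⟩
  have h1 : (pt 1 c) p ∈ Proj.basicOpen P1.grading (P1.T.{u} 1) := by
    rw [← Proj.opensRange_awayι P1.grading (P1.T 1) (P1.X_mem 1) one_pos, pt]
    exact ⟨_, (Scheme.Hom.comp_apply _ _ _).symm⟩
  rw [← h, pt, Scheme.Hom.comp_apply] at h1
  change _ ∈ Proj.awayι _ _ _ _ ⁻¹ᵁ Proj.basicOpen _ _ at h1
  rw [Proj.awayι_preimage_basicOpen _ (P1.X_mem 0) one_pos (P1.X_mem 1) one_pos] at h1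
  refine h1 ?_
  show P1.chartMap 0 B b (HomogeneousLocalization.Away.isLocalizationElem (P1.X_mem 0) (P1.X_mem 1)) ∈ m
  rw [HomogeneousLocalization.Away.isLocalizationElem, chartMap_mk]
  simpa [evPair, MvPolynomial.eval₂_X] using hbm

theorem pt_injective {i : Fin (1 + 1)} {b b' : B} (h : pt i b = pt i b') : b = b' := by
  haveI : IsOpenImmersion (Proj.awayι P1.grading.{u} (P1.T i) (P1.X_mem i) one_pos) := inferInstance
  rw [pt, pt, cancel_mono] at h
  have h0 : P1.chartMap i B b = P1.chartMap i B b' :=
    congrArg CommRingCat.Hom.hom (Spec.map_injective h)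
  have h1 := congr($h0
    (HomogeneousLocalization.Away.mk P1.grading (P1.X_mem i) 1 (P1.T (1 - i)) (by
      rw [smul_eq_mul, mul_one]; exact P1.X_mem _)))
  simp only [CommRingCat.hom_ofHom, chartMap_mk, evPair, MvPolynomial.coe_eval₂Hom,
    MvPolynomial.eval₂_X] at h1
  fin_cases i <;> simpa using h1

theorem mul_eq_one_of_eq {b c : B} (h : pt 0 b = pt 1 c) : b * c = 1 := by
  obtain ⟨u, rfl⟩ := isUnit_of_eq h
  rw [← pt_injective (((pt_eq (B := B) u.mul_inv).symm).trans h), Units.mul_inv]

end Groth.Agent.P1Rigid
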