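import Groth.Agent.P1Rigid.Pts
import Groth.Agent.H23.RigidAb
import Groth.Agent.H23.P1Conn
import Groth.Agent.GrpSchLib.HomFinite
import Mathlib.AlgebraicGeometry.Morphisms.FlatMono

/-! Morphisms from the projective line to a group scheme over a field are constant. -/

set_option autoImplicit false
set_option backward.isDefEq.respectTransparency false

universe u

open CategoryTheory Limits AlgebraicGeometry MonoidalCategory CartesianMonoidalCategory Polynomial
open scoped MonObj

namespace Groth.Agent.P1Rigid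

open H23.P1Charts

section Pts

variable {R B C : Type u} [CommRing R] [CommRing B] [CommRing C]

/-- the point of `P^1_R` with coordinate `b` in the chart `i` -/
noncomputable def ptOver (σ : R →+* B) (i : Fin (1 + 1)) (b : B) :
    Spec (CommRingCat.of B) ⟶ CohB1.ProjSpaceOver 1 (Spec (CommRingCat.of R)) :=
  pullback.lift (pt i b) (Spec.map (CommRingCat.ofHom σ)) (specULiftZIsTerminal.hom_ext _ _)

theorem ptOver_fst (σ : R →+* B) (i : Fin (1 + 1)) (b : B) :
    ptOver σ i b ≫ pullback.fst _ _ = pt i b := pullback.lift_fst _ _ _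

theorem ptOver_toBase (σ : R →+* B) (i : Fin (1 + 1)) (b : B) :
    ptOver σ i b ≫ CohB1.ProjSpaceOver.toBase 1 _ = Spec.map (CommRingCat.ofHom σ) :=
  pullback.lift_snd _ _ _

theorem eq_ptOver {T : CommRingCat.{u}} {σ : R →+* T} {i : Fin (1 + 1)} {b : T}
    {m : Spec T ⟶ CohB1.ProjSpaceOver 1 (Spec (CommRingCat.of R))}
    (h1 : m ≫ pullback.fst _ _ = pt (B := T) i b)
    (h2 : m ≫ CohB1.ProjSpaceOver.toBase 1 _ = Spec.map (CommRingCat.ofHom σ)) :
    m = ptOver (B := T) σ i b :=
  pullback.hom_ext (h1.trans (ptOver_fst σ i b).symm) (h2.trans (ptOver_toBase σ i b).symm)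

theorem spec_comp_ptOver (g : B →+* C) (σ : R →+* B) (i : Fin (1 + 1)) (b : B) :
    Spec.map (CommRingCat.ofHom g) ≫ ptOver σ i b = ptOver (g.comp σ) i (g b) := by
  refine eq_ptOver (T := CommRingCat.of C) ?_ ?_
  · exact (Category.assoc _ _ _).trans ((congrArg _ (ptOver_fst σ i b)).trans (spec_comp_pt g i b))
  · exact (Category.assoc _ _ _).trans ((congrArg _ (ptOver_toBase σ i b)).trans
      (Spec.map_comp _ _).symm)

theorem chartZ_eq (i : Fin (1 + 1)) : chartZ.{u} i = pt i (Polynomial.X : Z.{u}[X]) := rfl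

theorem chart_eq (i : Fin (1 + 1)) : chart R i = ptOver Polynomial.C i (Polynomial.X : R[X]) := by
  refine eq_ptOver (T := CommRingCat.of R[X]) ?_ (chart_toBase R i)
  refine (chart_fst R i).trans ((congrArg _ (chartZ_eq i)).trans ((spec_comp_pt _ i _).trans ?_))
  simp

theorem ptOver_eq (σ : R →+* B) {b c : B} (h : b * c = 1) : ptOver σ 0 b = ptOver σ 1 c :=
  eq_ptOver (T := CommRingCat.of B) ((ptOver_fst σ 0 b).trans (pt_eq h)) (ptOver_toBase σ 0 b)

theorem eq_of_ptOver_eq {σ σ' : R →+* B} {b c : B} (h : ptOver σ 0 b = ptOver σ' 1 c) :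
    σ = σ' ∧ b * c = 1 := by
  refine ⟨?_, mul_eq_one_of_eq (by rw [← ptOver_fst σ, h, ptOver_fst])⟩
  have h2 := congrArg (· ≫ CohB1.ProjSpaceOver.toBase 1 _) h
  simp only [ptOver_toBase] at h2
  exact congrArg CommRingCat.Hom.hom (Spec.map_injective h2)

theorem evalAway_eq (i : Fin (1 + 1)) : P1.evalAway.{u} i = P1.chartMap i Z.{u} 0 := by
  refine RingHom.ext fun a => ?_
  obtain ⟨n, p, hp, rfl⟩ := HomogeneousLocalization.Away.mk_surjective P1.grading (P1.X_mem i) a
  rw [chartMap_mk]
  simp only [P1.evalAway, RingHom.comp_apply, HomogeneousLocalization.algebraMap_apply,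
    HomogeneousLocalization.Away.val_mk]
  rw [Localization.mk_eq_mk', IsLocalization.Away.lift, IsLocalization.lift_mk'_spec]
  have h : evPair (B := Z.{u}) (Function.update (fun _ => (0 : Z.{u})) i 1) =
      (MvPolynomial.aeval (Pi.single i (1 : Z.{u}) : Fin (1 + 1) → Z.{u})).toRingHom := by
    refine MvPolynomial.ringHom_ext (fun r => ?_) (fun j => ?_)
    · obtain ⟨r⟩ := r
      simp [evPair, up]
      rfl
    · rcases eq_or_ne j i with rfl | hj <;> simp [evPair, *]
  rw [h]
  simp

theorem ptOver_eq_sect (i : Fin (1 + 1)) :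
    ptOver (RingHom.id R) i (0 : R) = P1.sect (Spec (CommRingCat.of R)) i := by
  refine (eq_ptOver (T := CommRingCat.of R) ?_ ?_).symm
  · refine (pullback.lift_fst _ _ _).trans ?_
    rw [show specULiftZIsTerminal.from (Spec (CommRingCat.of R)) =
      Spec.map (CommRingCat.ofHom (up R)) from specULiftZIsTerminal.hom_ext _ _]
    show Spec.map _ ≫ Spec.map (CommRingCat.ofHom (P1.evalAway i)) ≫ _ = _
    rw [evalAway_eq]
    exact (spec_comp_pt (up R) i (0 : Z.{u})).trans (congrArg _ (map_zero _))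
  · exact (pullback.lift_snd _ _ _).trans (Spec.map_id _).symm

theorem chart_one_away (R : Type u) [CommRing R] :
    ∃ g : R[X] →+* Localization.Away (Polynomial.X : R[X]),
      Spec.map (CommRingCat.ofHom (algebraMap R[X] (Localization.Away (Polynomial.X : R[X])))) ≫ chart R 1 =
        Spec.map (CommRingCat.ofHom g) ≫ chart R 0 := by
  let L := Localization.Away (Polynomial.X : R[X])
  let t : L := IsLocalization.Away.invSelf (Polynomial.X : R[X])
  have ht : t * algebraMap R[X] L Polynomial.X = 1 :=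
    (mul_comm _ _).trans (IsLocalization.Away.mul_invSelf _)
  refine ⟨Polynomial.eval₂RingHom ((algebraMap R[X] L).comp Polynomial.C) t, ?_⟩
  refine ((congrArg _ (chart_eq 1)).trans (spec_comp_ptOver _ _ _ _)).trans ?_
  refine (ptOver_eq _ ht).symm.trans ?_
  refine Eq.trans ?_ ((congrArg _ (chart_eq 0)).trans (spec_comp_ptOver _ _ _ _)).symm
  congr 1
  · exact RingHom.ext fun a => (Polynomial.eval₂_C _ _).symm
  · exact (Polynomial.eval₂_X _ _).symm

end Pts

section Field

variable (κ : Type u) [Field κ]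

instance geometricallyIntegral_toBase (R : Type u) [CommRing R] :
    GeometricallyIntegral (CohB1.ProjSpaceOver.toBase 1 (Spec (CommRingCat.of R))) := by
  refine ⟨fun {K} _ y Y' fst snd h => ?_⟩
  exact IsIntegral.of_isIso (h.isoIsPullback _ _ (H23.P1Conn.isPullback_toP1 y)).inv

instance flat_toBase (R : Type u) [CommRing R] :
    Flat (CohB1.ProjSpaceOver.toBase 1 (Spec (CommRingCat.of R))) := by
  let 𝒰 : (CohB1.ProjSpaceOver 1 (Spec (CommRingCat.of R))).OpenCover :=
    Scheme.Cover.mkOfCovers (Fin (1 + 1)) _ (chart R)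
      (fun x => by obtain ⟨i, y, hy⟩ := exists_chart R x; exact ⟨i, y, hy⟩) (fun _ => inferInstance)
  refine IsZariskiLocalAtSource.of_openCover (P := @Flat) 𝒰 fun i => ?_
  show Flat (chart R i ≫ _)
  rw [chart_toBase]
  exact (HasRingHomProperty.Spec_iff (P := @Flat)).mpr
    (RingHom.flat_algebraMap_iff.mpr (inferInstanceAs (Module.Flat R R[X])))

instance lfp_toBase (R : Type u) [CommRing R] :
    LocallyOfFinitePresentation (CohB1.ProjSpaceOver.toBase 1 (Spec (CommRingCat.of R))) := by
  let 𝒰 : (CohB1.ProjSpaceOver 1 (Spec (CommRingCat.of R))).OpenCover :=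
    Scheme.Cover.mkOfCovers (Fin (1 + 1)) _ (chart R)
      (fun x => by obtain ⟨i, y, hy⟩ := exists_chart R x; exact ⟨i, y, hy⟩) (fun _ => inferInstance)
  refine IsZariskiLocalAtSource.of_openCover (P := @LocallyOfFinitePresentation) 𝒰 fun i => ?_
  show LocallyOfFinitePresentation (chart R i ≫ _)
  rw [chart_toBase]
  exact (HasRingHomProperty.Spec_iff (P := @LocallyOfFinitePresentation)).mpr
    (RingHom.finitePresentation_algebraMap.mpr (inferInstanceAs (Algebra.FinitePresentation R R[X])))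

variable {κ} (G : Over (Spec (CommRingCat.of κ))) [GrpObj G]
  (φ : Over.mk (CohB1.ProjSpaceOver.toBase 1 (Spec (CommRingCat.of κ))) ⟶ G)

variable {B C : Type u} [CommRing B] [CommRing C]

/-- the value of `φ` at a point -/
noncomputable def val (σ : κ →+* B) (i : Fin (1 + 1)) (b : B) :
    Over.mk (Spec.map (CommRingCat.ofHom σ)) ⟶ G :=
  (Over.homMk (ptOver σ i b) (ptOver_toBase σ i b) :
    Over.mk (Spec.map (CommRingCat.ofHom σ)) ⟶ Over.mk (CohB1.ProjSpaceOver.toBase 1 _)) ≫ φ

/-- the quotient of two values -/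
noncomputable def quo (σ : κ →+* B) (i : Fin (1 + 1)) (b b' : B) : Spec (CommRingCat.of B) ⟶ G.left :=
  (val G φ σ i b * (val G φ σ i b')⁻¹).left

theorem spec_comp_quo (g : B →+* C) (σ : κ →+* B) (i : Fin (1 + 1)) (b b' : B) :
    Spec.map (CommRingCat.ofHom g) ≫ quo G φ σ i b b' = quo G φ (g.comp σ) i (g b) (g b') := by
  let gg : Over.mk (Spec.map (CommRingCat.ofHom (g.comp σ))) ⟶ Over.mk (Spec.map (CommRingCat.ofHom σ)) :=
    Over.homMk (Spec.map (CommRingCat.ofHom g)) (by simp only [Over.mk_hom, ← Spec.map_comp]; rfl)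
  have hv : ∀ c, gg ≫ val G φ σ i c = val G φ (g.comp σ) i (g c) := fun c => by
    ext
    show Spec.map _ ≫ ptOver σ i c ≫ φ.left = ptOver (g.comp σ) i (g c) ≫ φ.left
    rw [← Category.assoc, spec_comp_ptOver]
  show (gg ≫ (val G φ σ i b * (val G φ σ i b')⁻¹)).left = _
  rw [MonObj.comp_mul, GrpObj.comp_inv, hv, hv]
  rfl

theorem val_eq (σ : κ →+* B) {b c : B} (h : b * c = 1) : val G φ σ 0 b = val G φ σ 1 c := by
  ext
  show ptOver σ 0 b ≫ φ.left = ptOver σ 1 c ≫ φ.left
  rw [ptOver_eq σ h]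

theorem quo_self (σ : κ →+* B) (i : Fin (1 + 1)) (b : B) :
    quo G φ σ i b b = Spec.map (CommRingCat.ofHom σ) ≫ η[G].left := by
  rw [quo, _root_.mul_inv_cancel]
  rfl

variable (κ) in
/-- `κ[a]`. -/
abbrev A : Type u := κ[X]

variable (κ) in
/-- `κ[a][s]` with `1 + a s` inverted. -/
abbrev V : Type u := Localization.Away (1 + Polynomial.C (Polynomial.X : A κ) * Polynomial.X : (A κ)[X])

variable (κ) in
/-- the inverse of `1 + a s` -/
noncomputable def vinv : V κ :=
  IsLocalization.Away.invSelf (1 + Polynomial.C (Polynomial.X : A κ) * Polynomial.X : (A κ)[X])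

variable (κ) in
theorem mul_vinv : algebraMap (A κ)[X] (V κ) (1 + Polynomial.C (Polynomial.X : A κ) * Polynomial.X) * vinv κ = 1 :=
  IsLocalization.Away.mul_invSelf _

variable (κ) in
/-- the second chart -/
noncomputable def chartV : Spec (CommRingCat.of (V κ)) ⟶ CohB1.ProjSpaceOver 1 (Spec (CommRingCat.of (A κ))) :=
  Spec.map (CommRingCat.ofHom (algebraMap (A κ)[X] (V κ))) ≫ chart (A κ) 1

variable (κ) in
theorem chartV_eq : chartV κ =
    ptOver ((algebraMap (A κ)[X] (V κ)).comp Polynomial.C) 1 (algebraMap (A κ)[X] (V κ) Polynomial.X) := by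
  rw [chartV, chart_eq, spec_comp_ptOver]

instance : IsOpenImmersion (chartV κ) := by
  haveI : IsOpenImmersion (Spec.map (CommRingCat.ofHom (algebraMap (A κ)[X] (V κ)))) :=
    IsOpenImmersion.of_isLocalization (1 + Polynomial.C (Polynomial.X : A κ) * Polynomial.X : (A κ)[X])
  exact MorphismProperty.comp_mem @IsOpenImmersion _ _ inferInstance inferInstance

variable (κ) in
theorem chartV_covers (x : CohB1.ProjSpaceOver 1 (Spec (CommRingCat.of (A κ))))
    (hx : x ∉ Set.range (chart (A κ) 0)) : x ∈ Set.range (chartV κ) := by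
  obtain ⟨i, y, rfl⟩ := exists_chart (A κ) x
  obtain rfl | rfl : i = 0 ∨ i = 1 := by fin_cases i <;> simp
  · exact absurd ⟨y, rfl⟩ hx
  by_cases hX : (Polynomial.X : (A κ)[X]) ∈ y.asIdeal
  · have hu : (1 + Polynomial.C (Polynomial.X : A κ) * Polynomial.X : (A κ)[X]) ∉ y.asIdeal := fun h =>
      y.2.ne_top ((Ideal.eq_top_iff_one _).2 (by simpa using sub_mem h (y.asIdeal.mul_mem_left (Polynomial.C (Polynomial.X : A κ)) hX)))
    have hy : y ∈ Set.range (Spec.map (CommRingCat.ofHom (algebraMap (A κ)[X] (V κ)))) := by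
      change y ∈ Set.range (PrimeSpectrum.comap (algebraMap (A κ)[X] (V κ)))
      rw [PrimeSpectrum.localization_away_comap_range (V κ)
        (1 + Polynomial.C (Polynomial.X : A κ) * Polynomial.X)]
      exact hu
    obtain ⟨z, rfl⟩ := hy
    exact ⟨z, Scheme.Hom.comp_apply _ _ _⟩
  · exfalso
    have hy : y ∈ Set.range (Spec.map (CommRingCat.ofHom
        (algebraMap (A κ)[X] (Localization.Away (Polynomial.X : (A κ)[X]))))) := by
      change y ∈ Set.range (PrimeSpectrum.comap
        (algebraMap (A κ)[X] (Localization.Away (Polynomial.X : (A κ)[X]))))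
      exact (Set.ext_iff.mp (PrimeSpectrum.localization_away_comap_range
        (Localization.Away (Polynomial.X : (A κ)[X])) (Polynomial.X : (A κ)[X])) y).mpr hX
    obtain ⟨z, rfl⟩ := hy
    obtain ⟨g, hg⟩ := chart_one_away (A κ)
    exact hx ⟨(Spec.map (CommRingCat.ofHom g)) z, congr($hg.symm z)⟩

variable (κ) in
/-- the cover of `P^1_{κ[a]}` -/
noncomputable def cover : (CohB1.ProjSpaceOver 1 (Spec (CommRingCat.of (A κ)))).OpenCover :=
  Scheme.Cover.mkOfCovers (ULift.{u} Bool)
    (fun b => if b.down then Spec (CommRingCat.of (A κ)[X]) else Spec (CommRingCat.of (V κ)))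
    (fun b => match b with
      | ⟨true⟩ => chart (A κ) 0
      | ⟨false⟩ => chartV κ)
    (fun x => by
      by_cases hx : x ∈ Set.range (chart (A κ) 0)
      · obtain ⟨y, hy⟩ := hx; exact ⟨⟨true⟩, y, hy⟩
      · obtain ⟨y, hy⟩ := chartV_covers κ x hx; exact ⟨⟨false⟩, y, hy⟩)
    (fun b => match b with
      | ⟨true⟩ => inferInstanceAs (IsOpenImmersion (chart (A κ) 0))
      | ⟨false⟩ => inferInstanceAs (IsOpenImmersion (chartV κ)))

/-- `φ (t + a) φ (t)⁻¹` -/
noncomputable def piece0 : Spec (CommRingCat.of (A κ)[X]) ⟶ G.left :=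
  quo G φ ((Polynomial.C : A κ →+* (A κ)[X]).comp Polynomial.C) 0
    (Polynomial.X + Polynomial.C Polynomial.X) Polynomial.X

/-- the same on the second chart -/
noncomputable def piece1 : Spec (CommRingCat.of (V κ)) ⟶ G.left :=
  quo G φ (((algebraMap (A κ)[X] (V κ)).comp Polynomial.C).comp Polynomial.C) 1
    (algebraMap (A κ)[X] (V κ) Polynomial.X * vinv κ) (algebraMap (A κ)[X] (V κ) Polynomial.X)

theorem compat : pullback.fst (chart (A κ) 0) (chartV κ) ≫ piece0 G φ =
    pullback.snd (chart (A κ) 0) (chartV κ) ≫ piece1 G φ := by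
  refine (pullback (chart (A κ) 0) (chartV κ)).affineCover.hom_ext _ _ fun j => ?_
  let P := pullback (chart (A κ) 0) (chartV κ)
  rw [← cancel_epi (P.affineCover.X j).isoSpec.inv]
  let w : Spec (CommRingCat.of Γ(P.affineCover.X j, ⊤)) ⟶ P :=
    (P.affineCover.X j).isoSpec.inv ≫ P.affineCover.f j
  rw [← Category.assoc, ← Category.assoc (P.affineCover.X j).isoSpec.inv]
  show w ≫ _ = w ≫ _
  obtain ⟨f0, hf0⟩ : ∃ f, w ≫ pullback.fst _ _ = Spec.map (CommRingCat.ofHom f) :=
    ⟨(Spec.preimage (w ≫ pullback.fst _ _)).hom, (Spec.map_preimage _).symm⟩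
  obtain ⟨f1, hf1⟩ : ∃ f, w ≫ pullback.snd _ _ = Spec.map (CommRingCat.ofHom f) :=
    ⟨(Spec.preimage (w ≫ pullback.snd _ _)).hom, (Spec.map_preimage _).symm⟩
  have hc := w ≫= (pullback.condition (f := chart (A κ) 0) (g := chartV κ))
  rw [← Category.assoc, ← Category.assoc, hf0, hf1, chart_eq, chartV_eq, spec_comp_ptOver,
    spec_comp_ptOver] at hc
  obtain ⟨hσ, hbc⟩ := eq_of_ptOver_eq hc
  rw [← Category.assoc, ← Category.assoc, hf0, hf1, piece0, piece1, spec_comp_quo, spec_comp_quo]
  have hσ' : f0.comp ((Polynomial.C : A κ →+* (A κ)[X]).comp Polynomial.C) =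
      f1.comp (((algebraMap (A κ)[X] (V κ)).comp Polynomial.C).comp Polynomial.C) := by
    rw [← RingHom.comp_assoc, hσ, RingHom.comp_assoc, RingHom.comp_assoc]
  rw [← hσ', quo, quo, val_eq G φ (b := f0 (Polynomial.X + Polynomial.C Polynomial.X))
      (c := f1 (algebraMap (A κ)[X] (V κ) Polynomial.X * vinv κ)) _ ?_,
    val_eq G φ (b := f0 Polynomial.X) (c := f1 (algebraMap (A κ)[X] (V κ) Polynomial.X)) _ hbc]
  have ha : f0 (Polynomial.C Polynomial.X) =
      f1 (algebraMap (A κ)[X] (V κ) (Polynomial.C Polynomial.X)) := congr($hσ Polynomial.X)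
  have hv := congrArg f1 (mul_vinv κ)
  simp only [map_mul, map_add, map_one] at hv ⊢
  rw [ha]
  linear_combination f1 (vinv κ) * hbc + hv

/-- the difference map -/
noncomputable def diff : CohB1.ProjSpaceOver 1 (Spec (CommRingCat.of (A κ))) ⟶ G.left :=
  (cover κ).glueMorphisms
    (fun b => match b with
      | ⟨true⟩ => piece0 G φ
      | ⟨false⟩ => piece1 G φ)
    (fun x y => match x, y with
      | ⟨true⟩, ⟨true⟩ => by
          haveI : Mono ((cover κ).f ⟨true⟩) := inferInstanceAs (Mono (chart (A κ) 0))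
          rw [fst_eq_snd_of_mono_eq]
      | ⟨false⟩, ⟨false⟩ => by
          haveI : Mono ((cover κ).f ⟨false⟩) := inferInstanceAs (Mono (chartV κ))
          rw [fst_eq_snd_of_mono_eq]
      | ⟨true⟩, ⟨false⟩ => compat G φ
      | ⟨false⟩, ⟨true⟩ => by
          rw [← cancel_epi (pullbackSymmetry _ _).hom, pullbackSymmetry_hom_comp_fst_assoc,
            pullbackSymmetry_hom_comp_snd_assoc]
          exact (compat G φ).symm)

theorem chart_diff : chart (A κ) 0 ≫ diff G φ = piece0 G φ :=
  Scheme.Cover.ι_glueMorphisms (cover κ) _ _ ⟨true⟩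

theorem chartV_diff : chartV κ ≫ diff G φ = piece1 G φ :=
  Scheme.Cover.ι_glueMorphisms (cover κ) _ _ ⟨false⟩

/-- translation invariance -/
theorem diff_eq : diff G φ = CohB1.ProjSpaceOver.toBase 1 _ ≫
    Spec.map (CommRingCat.ofHom (Polynomial.C : κ →+* A κ)) ≫ η[G].left := by
  haveI : IsSeparated G.hom := GrpSchLib.HomFinite.isSeparated G
  let p := CohB1.ProjSpaceOver.toBase 1 (Spec (CommRingCat.of (A κ)))
  let e : Spec (CommRingCat.of (A κ)) ⟶ CohB1.ProjSpaceOver 1 (Spec (CommRingCat.of (A κ))) :=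
    P1.sect _ 1
  have he : e ≫ p = 𝟙 _ := H23.P1Conn.sect_toBase 1
  have hediff : e ≫ diff G φ = Spec.map (CommRingCat.ofHom (Polynomial.C : κ →+* A κ)) ≫ η[G].left := by
    let g : V κ →+* A κ := IsLocalization.Away.lift
      (1 + Polynomial.C (Polynomial.X : A κ) * Polynomial.X : (A κ)[X])
      (g := Polynomial.evalRingHom 0) (by simp)
    have hg : ∀ r, g (algebraMap (A κ)[X] (V κ) r) = r.eval 0 := fun r => IsLocalization.Away.lift_eq _ _ r
    have he' : Spec.map (CommRingCat.ofHom g) ≫ chartV κ = e := by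
      rw [chartV_eq, spec_comp_ptOver, hg, Polynomial.eval_X, show e = _ from (ptOver_eq_sect 1).symm]
      congr 1
      exact RingHom.ext fun r => by simp [hg]
    rw [← he', Category.assoc, chartV_diff, piece1, spec_comp_quo, map_mul, hg, Polynomial.eval_X,
      zero_mul, quo_self]
    congr 3
    exact RingHom.ext fun r => by simp [hg]
  have hG : diff G φ ≫ G.hom = p ≫ Spec.map (CommRingCat.ofHom (Polynomial.C : κ →+* A κ)) := by
    refine (cover κ).hom_ext _ _ fun b => ?_
    match b with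
    | ⟨true⟩ =>
      show chart (A κ) 0 ≫ _ = chart (A κ) 0 ≫ _
      rw [← Category.assoc, chart_diff, ← Category.assoc, chart_toBase, ← Spec.map_comp]
      exact Over.w _
    | ⟨false⟩ =>
      show chartV κ ≫ _ = chartV κ ≫ _
      rw [← Category.assoc, chartV_diff, ← Category.assoc, chartV_eq, ptOver_toBase, ← Spec.map_comp]
      exact Over.w _
  have h0 := H23.RigidApply.constFibres_of_geometricallyIntegral p
  have hg : p ≫ e ≫ diff G φ ≫ G.hom = diff G φ ≫ G.hom := by
    rw [hG, reassoc_of% he]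
  obtain ⟨C, hCc, hC, -⟩ := H23.RigidGen.of_section p h0 e he G.hom (diff G φ) hg
  let s : Spec (CommRingCat.of κ) ⟶ Spec (CommRingCat.of (A κ)) :=
    Spec.map (CommRingCat.ofHom (Polynomial.evalRingHom (0 : κ)))
  have hs : P1.toP1 s ≫ diff G φ = CohB1.ProjSpaceOver.toBase 1 _ ≫ η[G].left := by
    let 𝒰 : (CohB1.ProjSpaceOver 1 (Spec (CommRingCat.of κ))).OpenCover :=
      Scheme.Cover.mkOfCovers (Fin (1 + 1)) _ (chart κ)
        (fun x => by obtain ⟨i, y, hy⟩ := exists_chart κ x; exact ⟨i, y, hy⟩) (fun _ => inferInstance)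
    have key : ∀ (i : Fin (1 + 1)) (g : (A κ)[X] →+* κ[X]),
        g.comp Polynomial.C = Polynomial.C.comp (Polynomial.evalRingHom (0 : κ)) →
        g Polynomial.X = Polynomial.X →
        chart κ i ≫ P1.toP1 s = Spec.map (CommRingCat.ofHom g) ≫ chart (A κ) i := by
      intro i g hg1 hg2
      refine Eq.trans ?_ ((congrArg _ (chart_eq i)).trans (spec_comp_ptOver _ _ _ _)).symm
      rw [hg1, hg2]
      refine eq_ptOver (T := CommRingCat.of κ[X]) ?_ ?_
      · refine (Category.assoc _ _ _).trans ((congrArg _ ((pullback.lift_fst _ _ _).trans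
          (Category.comp_id _))).trans ?_)
        exact (congrArg (· ≫ _) (chart_eq i)).trans (ptOver_fst _ _ _)
      · refine (Category.assoc _ _ _).trans ((congrArg _ (pullback.lift_snd _ _ _)).trans ?_)
        exact (Category.assoc _ _ _).symm.trans
          ((congrArg (· ≫ s) (chart_toBase κ i)).trans (Spec.map_comp _ _).symm)
    refine 𝒰.hom_ext _ _ fun (i : Fin (1 + 1)) => ?_
    show chart κ i ≫ _ = chart κ i ≫ _
    let g0 : (A κ)[X] →+* κ[X] := Polynomial.mapRingHom (Polynomial.evalRingHom (0 : κ))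
    have hg0 : g0.comp Polynomial.C = Polynomial.C.comp (Polynomial.evalRingHom (0 : κ)) :=
      RingHom.ext fun r => by simp [g0]
    rw [← Category.assoc, key i g0 hg0 (by simp [g0]), Category.assoc]
    refine Eq.trans ?_ ((congrArg (· ≫ η[G].left) (chart_toBase κ i)).symm.trans (Category.assoc _ _ _))
    fin_cases i
    · show Spec.map _ ≫ chart (A κ) 0 ≫ _ = _
      rw [chart_diff, piece0, spec_comp_quo]
      simp only [map_add]
      rw [show g0 (Polynomial.C Polynomial.X) = 0 by simp [g0], add_zero, quo_self]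
      congr 3
      exact RingHom.ext fun r => by simp [g0]
    · show Spec.map _ ≫ chart (A κ) 1 ≫ _ = _
      let g1 : V κ →+* κ[X] := IsLocalization.Away.lift
        (1 + Polynomial.C (Polynomial.X : A κ) * Polynomial.X : (A κ)[X]) (g := g0) (by simp [g0])
      have hg : ∀ r, g1 (algebraMap (A κ)[X] (V κ) r) = g0 r := fun r => IsLocalization.Away.lift_eq _ _ r
      have hv : g1 (vinv κ) = 1 := by
        have := congrArg g1 (mul_vinv κ)
        simpa [hg, g0] using this
      have e1 : Spec.map (CommRingCat.ofHom g0) ≫ chart (A κ) 1 = Spec.map (CommRingCat.ofHom g1) ≫ chartV κ := by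
        rw [chartV, ← Category.assoc (Spec.map (CommRingCat.ofHom g1)), ← Spec.map_comp,
          ← CommRingCat.ofHom_comp, show g1.comp (algebraMap (A κ)[X] (V κ)) = g0 from RingHom.ext hg]
      rw [← Category.assoc, e1, Category.assoc, chartV_diff, piece1, spec_comp_quo, map_mul, hv, mul_one,
        quo_self]
      congr 3
      exact RingHom.ext fun r => by simp [hg, g0]
  have hmem : s (IsLocalRing.closedPoint κ) ∈ H23.RigidNoeth.collapsed p (diff G φ) := by
    refine ⟨η[G].left (IsLocalRing.closedPoint κ), fun z hz => ?_⟩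
    obtain ⟨w, hw, -⟩ := Scheme.exists_preimage_of_isPullback (H23.P1Conn.isPullback_toP1 s) z _ hz
    subst hw
    refine congr($hs w).trans ?_
    exact congrArg η[G].left (Subsingleton.elim (α := PrimeSpectrum κ) _ _)
  have htop : ∀ x, x ∈ H23.RigidNoeth.collapsed p (diff G φ) := by
    intro x
    rw [← hC]
    have hu : (C : Set (Spec (CommRingCat.of (A κ)))) = Set.univ :=
      IsClopen.eq_univ ⟨hCc, C.2⟩ ⟨_, hC ▸ hmem⟩
    rw [hu]
    trivial
  rw [H23.RigidGen.eq_comp_section p h0 e he (diff G φ) htop, hediff]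

/-- Morphisms from the projective line to a group scheme are constant. -/
theorem eq_const : φ.left = CohB1.ProjSpaceOver.toBase 1 _ ≫ P1.sect _ 0 ≫ φ.left := by
  haveI : IsSeparated G.hom := GrpSchLib.HomFinite.isSeparated G
  let g : (A κ)[X] →+* κ[X] := Polynomial.evalRingHom 0
  have h : Spec.map (CommRingCat.ofHom g) ≫ chart (A κ) 0 ≫ diff G φ =
      Spec.map (CommRingCat.ofHom g) ≫ chart (A κ) 0 ≫ CohB1.ProjSpaceOver.toBase 1 _ ≫
        Spec.map (CommRingCat.ofHom (Polynomial.C : κ →+* A κ)) ≫ η[G].left := by rw [diff_eq]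
  rw [chart_diff, piece0, spec_comp_quo, ← Category.assoc (chart (A κ) 0), chart_toBase] at h
  replace h := h.trans (show _ = quo G φ ((g.comp (Polynomial.C : A κ →+* (A κ)[X])).comp Polynomial.C) 0
      (g Polynomial.X) (g Polynomial.X) by
    rw [quo_self, CommRingCat.ofHom_comp, CommRingCat.ofHom_comp, Spec.map_comp, Spec.map_comp]
    simp only [Category.assoc]
    )
  rw [RingHom.comp_assoc] at h
  have hσ : g.comp ((Polynomial.C : A κ →+* (A κ)[X]).comp Polynomial.C) = Polynomial.C :=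
    RingHom.ext fun r => by simp [g]
  rw [hσ] at h
  simp only [g, map_add, Polynomial.coe_evalRingHom, Polynomial.eval_X, Polynomial.eval_C, zero_add] at h
  have hv : val G φ Polynomial.C 0 (Polynomial.X : κ[X]) = val G φ Polynomial.C 0 0 :=
    mul_right_cancel (Over.OverMorphism.ext h)
  have h2 : chart κ 0 ≫ φ.left = chart κ 0 ≫ CohB1.ProjSpaceOver.toBase 1 _ ≫ P1.sect _ 0 ≫ φ.left := by
    rw [← Category.assoc (chart κ 0), chart_toBase, ← ptOver_eq_sect, ← Category.assoc,
      spec_comp_ptOver, map_zero, RingHom.comp_id, chart_eq]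
    exact congrArg CommaMorphism.left hv
  haveI : IsDominant (chart κ 0) := ⟨by
    rw [DenseRange, dense_iff_closure_eq]
    exact ((chart κ 0).isOpenEmbedding.isOpen_range.dense ⟨_, ⟨Classical.arbitrary (PrimeSpectrum κ[X]), rfl⟩⟩).closure_eq⟩
  haveI : AlgebraicGeometry.IsReduced (Over.mk (CohB1.ProjSpaceOver.toBase 1 (Spec (CommRingCat.of κ)))).left :=
    inferInstanceAs (AlgebraicGeometry.IsReduced (CohB1.ProjSpaceOver 1 (Spec (CommRingCat.of κ))))
  exact ext_of_isDominant_of_isSeparated G.hom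
    (by
      refine (Over.w φ).trans (Eq.trans ?_ (congrArg (CohB1.ProjSpaceOver.toBase 1 _ ≫ ·)
        (congrArg (P1.sect _ 0 ≫ ·) (Over.w φ)).symm |>.trans (by simp only [Category.assoc])))
      exact (Category.comp_id _).symm.trans
        (congrArg (CohB1.ProjSpaceOver.toBase 1 _ ≫ ·) (H23.P1Conn.sect_toBase 0).symm))
    (chart κ 0) h2

end Field

end Groth.Agent.P1Rigid
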